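import Mathlib
import Cfsg.Agent.H984.SLTable
import Cfsg.Agent.H686.CharKit
import Cfsg.Agent.Blocks.Basic
import Cfsg.Agent.Blocks.ClassScalar
import Cfsg.Agent.LieClassical.FieldTransfer
import Cfsg.Agent.H525.PslK
import Cfsg.Agent.H771.KTools_m3
import Cfsg.Agent.H67.PCov
import Cfsg.Agent.H691.Defs
import Cfsg.Agent.H672.Over
import Cfsg.Agent.H681.DegBasic
import Cfsg.Agent.S2299
import Cfsg.Agent.H686.SLCover
import Cfsg.Agent.H984.SLCyc
import Cfsg.Agent.ClassicalGeometry.PSL2Basic
import Cfsg.Agent.CharactersDeep.CosetAverage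
import Cfsg.Agent.Characters.SchurBound
import Cfsg.Agent.FastGrp
import Cfsg.Agent.Prune
set_option linter.all false

section
prune_inst 0x7ffffbfefba9f9dfffff7fbfffd1dffef386afffefdffb73ffec79bfebdf7b0259456b85efea5afe1ed7eab414f87b93ff7eeeffea6fdc7ffffdf7b41ffbffdfedfeb50951d48c340e202fff83f17f0e7f3ffffffffffffffffffff7ffffffbeffffe7ffffff

-- part: H686/SlCentral
section
prune_inst 0x10040000000000000000c0001002900000000008800000000000000008000900000000000200000080000000000811000010020000000084000040000000100042001000a011040000008008000000000000000000000000000000000000010000000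
set_option linter.all false
open scoped Cfsg.Agent.FastGrp

-- part: H686/SLHalf
section
/-!
# The characters of degrees `(q ± 1) / 2` of `SL₂(q)`, `q` odd, have opposite central characters
-/

set_option autoImplicit false
set_option linter.unusedSectionVars false

namespace Cfsg.Agent.H686.SLHalf

open Matrix Cfsg Cfsg.Agent.H984.SLTwo

variable {F : Type*} [Field F] [DecidableEq F] [Fintype F]

local notation "SL" => Matrix.SpecialLinearGroup (Fin 2) F
local notation "M₂" => Matrix (Fin 2) (Fin 2) F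

theorem halves_plus (h2 : ringChar F ≠ 2) {m : ℕ} (hm : Fintype.card F = 2 * m + 1) (h5 : 2 ≤ m) {ψ : SL → ℂ}
    (hψ : IsIrrCharacter SL ψ) (hz : ∀ g, ψ (z0 * g) = ψ g) (hd : ψ 1 = ((m + 1 : ℕ) : ℂ)) : Even m := by
  have hcase : ∀ a : Fˣ, a⁻¹ ≠ a → ∀ x, (IsSquare (a : F) → ψ (upp a x) = 1) ∧
      (¬ IsSquare (a : F) → ψ (upp a x) = -1) := by
    have cmp : ∀ n : ℕ, ψ 1 = ((n : ℕ) : ℂ) → n = m + 1 := by
      intro n hn
      rw [hd] at hn
      exact_mod_cast hn.symm
    rcases classify h2 hm hψ with ⟨α, -, -, h⟩ | ⟨-, h⟩ | ⟨-, h⟩ | ⟨-, -, h⟩ | ⟨-, h⟩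
    · have := cmp _ h; omega
    · have := cmp _ h; omega
    · have := cmp _ h; omega
    · exact h
    · rcases h with ⟨h, -⟩ | ⟨h, -⟩
      · have := cmp _ h; omega
      · have := cmp _ h; omega
  -- a unit with `a² ≠ 1`
  obtain ⟨a, ha⟩ : ∃ a : Fˣ, a⁻¹ ≠ a := by
    by_contra hcon
    push Not at hcon
    have h3 : ∀ a : Fˣ, a = 1 ∨ a = -1 := by
      intro a
      have h4 : a * a = 1 := by
        have := hcon a
        rw [inv_eq_iff_mul_eq_one] at this
        exact this
      have h5 : (a : F) * a = 1 := by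
        have := congrArg Units.val h4
        simpa only [_root_.Units.val_mul, _root_.Units.val_one] using this
      rcases mul_self_eq_one_iff.1 h5 with h | h
      · left; exact Units.ext h
      · right; exact Units.ext (by simpa using h)
    have h6 : Fintype.card Fˣ ≤ 2 := by
      have : (Finset.univ : Finset Fˣ) ⊆ {1, -1} := by
        intro x _
        rcases h3 x with rfl | rfl <;> simp only [_root_.Finset.mem_insert, _root_.Finset.mem_singleton, _root_.true_or, _root_.or_true]
      calc Fintype.card Fˣ = (Finset.univ : Finset Fˣ).card := rfl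
        _ ≤ ({1, -1} : Finset Fˣ).card := Finset.card_le_card this
        _ ≤ 2 := Finset.card_le_two
    rw [Fintype.card_units] at h6
    omega
  have hna : (-a)⁻¹ ≠ -a := by
    intro h
    apply ha
    have : (-a)⁻¹ = -a⁻¹ := by rw [inv_neg]
    rw [this] at h
    exact neg_injective h
  have h1 := hcase a ha 0
  have h3 := hcase (-a) hna (-0)
  rw [← z0_mul_upp, hz] at h3
  have hsq : IsSquare (-1 : F) := by
    have hne1 : (1 : ℂ) ≠ -1 := by norm_num
    have key : quadraticChar F (-(a : F)) = quadraticChar F (a : F) := by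
      by_cases h : IsSquare (a : F)
      · have h7 : IsSquare ((-a : Fˣ) : F) := by
          by_contra h8
          exact hne1 ((h1.1 h).symm.trans (h3.2 h8))
        rw [(quadraticChar_one_iff_isSquare a.ne_zero).2 h,
          (quadraticChar_one_iff_isSquare (neg_ne_zero.2 a.ne_zero)).2 (by simpa only [_root_.Units.val_neg] using h7)]
      · have h7 : ¬ IsSquare ((-a : Fˣ) : F) := by
          intro h8
          exact hne1 ((h3.1 h8).symm.trans (h1.2 h))
        rw [quadraticChar_neg_one_iff_not_isSquare.2 h,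
          quadraticChar_neg_one_iff_not_isSquare.2 (by simpa only [_root_.Units.val_neg] using h7)]
    have h8 : quadraticChar F (-1 : F) = 1 := by
      have h9 : quadraticChar F (-(a : F)) = quadraticChar F (-1) * quadraticChar F (a : F) := by
        rw [← map_mul, neg_one_mul]
      rw [h9] at key
      have h10 : quadraticChar F (a : F) ≠ 0 := by
        rw [Ne, quadraticChar_eq_zero_iff]
        exact a.ne_zero
      exact mul_right_cancel₀ h10 (by rw [key, one_mul])
    exact (quadraticChar_one_iff_isSquare (neg_ne_zero.2 one_ne_zero)).1 h8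
  have h9 := (FiniteField.isSquare_neg_one_iff (F := F)).1 hsq
  rw [hm] at h9
  rw [Nat.even_iff]
  omega

theorem halves_minus (h2 : ringChar F ≠ 2) {m : ℕ} (hm : Fintype.card F = 2 * m + 1) (h5 : 2 ≤ m) {ψ : SL → ℂ}
    (hψ : IsIrrCharacter SL ψ) (hz : ∀ g, ψ (z0 * g) = ψ g) (hd : ψ 1 = ((m : ℕ) : ℂ)) : Odd m := by
  have hcase : ∀ g : SL, Ell (g : M₂) → (g ^ (m + 1) = 1 → ψ g = -1) ∧ (g ^ (m + 1) ≠ 1 → ψ g = 1) := by
    have cmp : ∀ n : ℕ, ψ 1 = ((n : ℕ) : ℂ) → n = m := by
      intro n hn
      rw [hd] at hn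
      exact_mod_cast hn.symm
    rcases classify h2 hm hψ with ⟨α, -, -, h⟩ | ⟨-, h⟩ | ⟨-, h⟩ | ⟨h, -, -⟩ | ⟨-, h⟩
    · have := cmp _ h; omega
    · have := cmp _ h; omega
    · have := cmp _ h; omega
    · have := cmp _ h; omega
    · rcases h with ⟨h, -⟩ | ⟨-, h⟩
      · have := cmp _ h; omega
      · exact h
  rw [← Nat.not_even_iff_odd]
  intro hev
  obtain ⟨g, hg⟩ := exists_ell (F := F)
  have hmem := self_mem_cent g
  have hz0 := z0_mem g
  have hNS : NS ((z0 * g : SL) : M₂) := by
    by_contra hns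
    have h6 : g = z0 * (z0 * g) := by rw [← mul_assoc, z0_mul_self, one_mul]
    rcases scalar_cases hns with h | h
    · rw [upp_one_zero] at h
      rw [h, mul_one] at h6
      exact not_NS_z0 (h6 ▸ hg.NS)
    · have h7 : g = 1 := by
        rw [h6, h]; exact z0_mul_self
      have h8 : ¬ NS ((1 : SL) : M₂) := by
        rw [← upp_one_zero]; exact not_NS_upp inv_one
      exact h8 (h7 ▸ hg.NS)
  have hell := ell_of_mem_cent hg (mul_mem hz0 hmem) hNS
  have hpow : g ^ (m + 1) * g ^ (m + 1) = 1 := by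
    have h7 : (⟨g, hmem⟩ : Subgroup.centralizer ({g} : Set SL)) ^ Nat.card (Subgroup.centralizer ({g} : Set SL)) = 1 :=
      pow_card_eq_one'
    rw [card_cent_two_mul hg hm, two_mul, pow_add] at h7
    exact congrArg Subtype.val h7
  have hcases : g ^ (m + 1) = 1 ∨ g ^ (m + 1) = z0 := by
    have h8 : ¬ NS ((g ^ (m + 1) : SL) : M₂) := by
      intro hns
      exact ne_inv_of_NS hg (pow_mem hmem _) hns (eq_inv_of_mul_eq_one_left hpow)
    rcases scalar_cases h8 with h | h
    · left; rw [h, upp_one_zero]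
    · right; exact h
  have hzpow : (z0 * g) ^ (m + 1) = z0 * g ^ (m + 1) := by
    rw [(show Commute z0 g from z0_comm g).mul_pow, z0_pow_odd hev.add_one]
  have hne : (z0 : SL) ≠ 1 := z0_ne_one h2
  have hne1 : (1 : ℂ) ≠ -1 := by norm_num
  rcases hcases with h | h
  · have e1 := (hcase g hg).1 h
    have e2 := (hcase _ hell).2 (by rw [hzpow, h, mul_one]; exact hne)
    rw [hz, e1] at e2
    exact hne1 e2.symm
  · have e1 := (hcase g hg).2 (by rw [h]; exact hne)
    have e2 := (hcase _ hell).1 (by rw [hzpow, h, z0_mul_self])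
    rw [hz, e1] at e2
    exact hne1 e2

end Cfsg.Agent.H686.SLHalf
end

-- part: H686/SLNine
section
/-!
# Degrees of the characters of a perfect central extension of `PSL₂(9)` by a group of order 3

`dvd_of_perfect`: in a perfect group a central element of prime order `p` outside the kernel of `θ` gives `p ∣ θ(1)`.

`exists_bad_degree`: a perfect central extension of `PSL₂(9)` with kernel of order 3 has an irreducible character of
degree divisible by 3 and not 3 or 9.
-/

set_option autoImplicit false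

namespace Cfsg.Agent.H686.SLNine

open Cfsg Cfsg.Agent.H686.CharKit Cfsg.Agent.H67
open Cfsg.Agent.Characters

theorem dvd_of_perfect {L : Type*} [Group L] (hL : commutator L = ⊤) {c : L} (hc : ∀ x : L, c * x = x * c)
    {p : ℕ} (hp : p.Prime) (hcp : c ^ p = 1) {θ : L → ℂ} (hθ : IsIrrCharacter L θ) (h : θ c ≠ θ 1) :
    p ∣ charDegree θ := by
  have hdeg := Cfsg.Agent.Blocks.Basic.irr_one_eq_charDegree hθ
  obtain ⟨n, ρ, hρ, rfl⟩ := hθ
  obtain ⟨ω, hω⟩ := Cfsg.Agent.Blocks.ClassScalar.exists_smul_of_commute ρ hρ (ρ c) (fun g => by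
    rw [← map_mul, ← map_mul, hc])
  have h1 : ρ.character 1 = n := by
    rw [Representation.char_one, Module.finrank_fin_fun]
  have h2 : ρ.character c = ω * n := by
    show LinearMap.trace ℂ _ (ρ c) = _
    rw [hω, map_smul, LinearMap.trace_one, Module.finrank_fin_fun, smul_eq_mul]
  have hn : charDegree ρ.character = n := by
    rw [h1] at hdeg
    exact_mod_cast hdeg.symm
  have hω1 : ω ≠ 1 := by
    rintro rfl
    apply h
    rw [h1, h2, one_mul]
  have hnpos : n ≠ 0 := by
    rintro rfl
    apply h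
    rw [h1, h2]; simp
  have hωp : ω ^ p = 1 := by
    have h3 : (ρ c) ^ p = 1 := by rw [← map_pow, hcp, map_one]
    rw [hω, smul_pow, one_pow] at h3
    have h4 := congrArg (LinearMap.trace ℂ (Fin n → ℂ)) h3
    rw [map_smul, LinearMap.trace_one, Module.finrank_fin_fun, smul_eq_mul] at h4
    have h5 : (n : ℂ) ≠ 0 := Nat.cast_ne_zero.2 hnpos
    exact mul_right_cancel₀ h5 (by rw [h4, one_mul])
  have hdet : ω ^ n = 1 := by
    let δ : L →* ℂˣ := ((LinearMap.det : Module.End ℂ (Fin n → ℂ) →* ℂ).comp ρ).toHomUnits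
    have h3 : δ c = 1 := by
      have h4 : commutator L ≤ δ.ker := Abelianization.commutator_subset_ker δ
      have h5 : c ∈ commutator L := by rw [hL]; trivial
      exact h4 h5
    have h4 : (δ c : ℂ) = LinearMap.det (ρ c) := rfl
    rw [h3, hω, LinearMap.det_smul, Module.finrank_fin_fun, map_one, mul_one, Units.val_one] at h4
    exact h4.symm
  have hord : orderOf ω = p := by
    have := Fact.mk hp
    exact orderOf_eq_prime hωp hω1
  rw [hn, ← hord]
  exact orderOf_dvd_of_pow_eq_one hdet

/-- numbers -/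
theorem arith {a b : ℕ} (h1 : 9 * a + 81 * b = 720) (h2 : a + b ≤ 14) : False := by omega

theorem exists_bad_degree {F : Type*} [Field F] [Fintype F] (hF : Fintype.card F = 9) {L : Type*} [Group L] [Finite L]
    {π : L →* Matrix.ProjectiveSpecialLinearGroup (Fin 2) F} {c : L} (hd : PCov 3 π c)
    (hcard : Nat.card (Matrix.ProjectiveSpecialLinearGroup (Fin 2) F) = 360) :
    ∃ θ : L → ℂ, IsIrrCharacter L θ ∧ 3 ∣ charDegree θ ∧ charDegree θ ≠ 3 ∧ charDegree θ ≠ 9 := by
  classical
  have : Finite (IrrCharacter L) := Core.finite_irr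
  let _ := Fintype.ofFinite (IrrCharacter L)
  let Z : Subgroup L := Subgroup.zpowers c
  have hZc : Z ≤ Subgroup.center L := by rw [show Z = π.ker from hd.ker_eq.symm]; exact hd.ker_le
  have hZn : Z.Normal := by rw [show Z = π.ker from hd.ker_eq.symm]; infer_instance
  have hZ3 : Nat.card Z = 3 := by
    have := hd.card_ker (by norm_num)
    rwa [hd.ker_eq] at this
  have e : (L ⧸ Z) ≃* Matrix.ProjectiveSpecialLinearGroup (Fin 2) F :=
    (QuotientGroup.quotientMulEquivOfEq hd.ker_eq.symm).trans (QuotientGroup.quotientKerEquivOfSurjective π hd.surj)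
  have hQ : Nat.card (L ⧸ Z) = 360 := by rw [Nat.card_congr e.toEquiv, hcard]
  have hL : Nat.card L = 1080 := by
    rw [Subgroup.card_eq_card_quotient_mul_card_subgroup Z, hQ, hZ3]
  have h3 : Fact (Nat.Prime 3) := ⟨by norm_num⟩
  let K : Type := GaloisField 3 2
  let _ : Fintype K := Fintype.ofFinite K
  have hKc : Fintype.card K = 9 := by
    rw [← Nat.card_eq_fintype_card]
    exact (GaloisField.card 3 2 (by norm_num)).trans (by norm_num)
  let eF : F ≃+* K := FiniteField.ringEquivOfCardEq (by rw [hF, hKc])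
  let e' : (L ⧸ Z) ≃* Matrix.ProjectiveSpecialLinearGroup (Fin 2) K :=
    e.trans (Cfsg.Agent.LieClassical.FieldTransfer.pslCongr eF)
  have hodd : Odd (Fintype.card K) := by rw [hKc]; decide
  have hk : Nat.card (ConjClasses (L ⧸ Z)) = 7 := by
    have h1 := Cfsg.Agent.H525.PslK.psl2_odd (F := K) hodd
    rw [hKc] at h1
    have h2 : Nat.card (ConjClasses (L ⧸ Z)) =
        Nat.card (ConjClasses (Matrix.ProjectiveSpecialLinearGroup (Fin 2) K)) := by
      rw [← Core.card_irr, ← Core.card_irr]
      refine Nat.card_congr (Equiv.ofBijective (fun χ : IrrCharacter (L ⧸ Z) =>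
        (⟨(χ : L ⧸ Z → ℂ) ∘ e'.symm.toMonoidHom, Core.isIrr_comp e'.symm.toMonoidHom e'.symm.surjective χ.2⟩ :
          IrrCharacter (Matrix.ProjectiveSpecialLinearGroup (Fin 2) K))) ⟨?_, ?_⟩)
      · intro χ χ' h
        apply Subtype.ext
        funext x
        have := congrFun (congrArg Subtype.val h) (e' x)
        simpa using this
      · intro χ
        refine ⟨⟨(χ : _ → ℂ) ∘ e'.toMonoidHom, Core.isIrr_comp e'.toMonoidHom e'.surjective χ.2⟩, ?_⟩
        apply Subtype.ext
        funext x
        simp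
    omega
  have hkL : Nat.card (IrrCharacter L) ≤ 21 := by
    rw [Core.card_irr]
    have := Cfsg.Agent.H92.KTools.card_le_mul_quotient Z hZc
    rw [hZ3, hk] at this
    exact this
  -- the characters with `Z` in the kernel
  have hB : Nat.card {χ : IrrCharacter L // Z ≤ chKer χ} = 7 := by
    rw [← Nat.card_congr (inflEquiv Z), Core.card_irr, hk]
  have hBsum : ∑ χ : {χ : IrrCharacter L // Z ≤ chKer χ}, charDegree (χ.1 : L → ℂ) ^ 2 = 360 := by
    have : Finite (IrrCharacter (L ⧸ Z)) := Core.finite_irr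
    let _ := Fintype.ofFinite (IrrCharacter (L ⧸ Z))
    rw [← (inflEquiv Z).sum_comp, ← hQ, ← sum_deg_sq (G := L ⧸ Z)]
    refine Finset.sum_congr rfl fun ψ _ => ?_
    have h1 : (charDegree ((inflEquiv Z ψ).1 : L → ℂ) : ℂ) = charDegree (ψ : L ⧸ Z → ℂ) := by
      rw [charDegree_irr, charDegree_irr]
      rfl
    have h2 : charDegree ((inflEquiv Z ψ).1 : L → ℂ) = charDegree (ψ : L ⧸ Z → ℂ) := by exact_mod_cast h1
    rw [h2]
  have hall := sum_deg_sq (G := L)
  rw [hL] at hall
  have hsplit : ∑ χ : {χ : IrrCharacter L // Z ≤ chKer χ}, charDegree (χ.1 : L → ℂ) ^ 2 +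
      ∑ χ : {χ : IrrCharacter L // ¬ Z ≤ chKer χ}, charDegree (χ.1 : L → ℂ) ^ 2 = 1080 := by
    rw [← hall]
    exact Fintype.sum_subtype_add_sum_subtype (fun χ : IrrCharacter L => Z ≤ chKer χ)
      (fun χ => charDegree (χ : L → ℂ) ^ 2)
  have hcardA : Nat.card {χ : IrrCharacter L // Z ≤ chKer χ} + Nat.card {χ : IrrCharacter L // ¬ Z ≤ chKer χ} ≤ 21 := by
    rw [← Nat.card_sum]
    refine le_trans (le_of_eq ?_) hkL
    exact Nat.card_congr (Equiv.sumCompl _)
  by_contra hcon
  push Not at hcon
  have hdeg : ∀ χ : {χ : IrrCharacter L // ¬ Z ≤ chKer χ},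
      charDegree (χ.1 : L → ℂ) = 3 ∨ charDegree (χ.1 : L → ℂ) = 9 := by
    intro χ
    have h1 : (χ.1 : L → ℂ) c ≠ (χ.1 : L → ℂ) 1 := by
      intro h
      apply χ.2
      rw [Subgroup.zpowers_le]
      exact h
    have h2 := dvd_of_perfect hd.perf hd.cen (by norm_num : Nat.Prime 3) hd.pow χ.1.2 h1
    by_contra h3
    rw [not_or] at h3
    exact h3.2 (hcon _ χ.1.2 h2 h3.1)
  have hsum : ∑ χ : {χ : IrrCharacter L // ¬ Z ≤ chKer χ}, charDegree (χ.1 : L → ℂ) ^ 2 =
      9 * (Finset.univ.filter fun χ : {χ : IrrCharacter L // ¬ Z ≤ chKer χ} => charDegree (χ.1 : L → ℂ) = 3).card +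
      81 * (Finset.univ.filter fun χ : {χ : IrrCharacter L // ¬ Z ≤ chKer χ} => ¬ charDegree (χ.1 : L → ℂ) = 3).card := by
    rw [← Finset.sum_filter_add_sum_filter_not Finset.univ
      (fun χ : {χ : IrrCharacter L // ¬ Z ≤ chKer χ} => charDegree (χ.1 : L → ℂ) = 3)]
    congr 1
    · rw [Finset.sum_congr rfl (g := fun _ => 9) (fun χ hχ => by rw [(Finset.mem_filter.1 hχ).2]; norm_num),
        Finset.sum_const, smul_eq_mul, mul_comm]
    · rw [Finset.sum_congr rfl (g := fun _ => 81) (fun χ hχ => by
        rw [(hdeg χ).resolve_left (Finset.mem_filter.1 hχ).2]; norm_num),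
        Finset.sum_const, smul_eq_mul, mul_comm]
  have hcards : (Finset.univ.filter fun χ : {χ : IrrCharacter L // ¬ Z ≤ chKer χ} => charDegree (χ.1 : L → ℂ) = 3).card +
      (Finset.univ.filter fun χ : {χ : IrrCharacter L // ¬ Z ≤ chKer χ} => ¬ charDegree (χ.1 : L → ℂ) = 3).card =
      Nat.card {χ : IrrCharacter L // ¬ Z ≤ chKer χ} := by
    rw [Finset.card_filter_add_card_filter_not, Nat.card_eq_fintype_card]
    try rfl
  refine arith (a := (Finset.univ.filter fun χ : {χ : IrrCharacter L // ¬ Z ≤ chKer χ} =>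
    charDegree (χ.1 : L → ℂ) = 3).card) (b := (Finset.univ.filter fun χ : {χ : IrrCharacter L // ¬ Z ≤ chKer χ} =>
    ¬ charDegree (χ.1 : L → ℂ) = 3).card) ?_ ?_
  · omega
  · omega

end Cfsg.Agent.H686.SLNine
end

-- part: H686/SlCentral
section
/-!
# A group with the degrees of `SL₂(q)`: the case of a central extension (task 146, part F1 of S4854)

`sl_of_central`: `cd(G) = DS q`, `G' = N` perfect, `R ≤ N` centralized by `N`, `N / R ≃ PSL₂(q)`; then `N ≃ SL₂(q)`.
-/

set_option autoImplicit false

namespace Cfsg.Agent.H686.SlCentral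

open Cfsg Cfsg.Agent.H686.CharKit Cfsg.Agent.H67
open Cfsg.Agent.Characters
open Cfsg.Agent.H984.SLTwo
open scoped commutatorElement

/-- an irreducible character of `N` has degree dividing a degree of `G` -/
theorem exists_dvd {G : Type*} [Group G] [Finite G] (N : Subgroup G) [N.Normal] {θ : N → ℂ}
    (hθ : IsIrrCharacter N θ) : ∃ d ∈ charDegrees G, charDegree θ ∣ d := by
  obtain ⟨χ, hχ, h⟩ := Cfsg.Agent.H672.exists_over_subtype N hθ
  exact ⟨charDegree χ, ⟨⟨χ, hχ⟩, rfl⟩, (Cfsg.Agent.H672.charDegree_dvd_of_over N hχ hθ h).1⟩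

/-- a nonlinear irreducible character of `G` lies over a nonlinear irreducible character of the perfect group
`N = G'`, of degree dividing -/
theorem exists_under {G : Type*} [Group G] [Finite G] (N : Subgroup G) [N.Normal] (hN : commutator N = ⊤)
    (hG : commutator G = N) {d : ℕ} (hd : d ∈ charDegrees G) (h1 : d ≠ 1) :
    ∃ θ : N → ℂ, IsIrrCharacter N θ ∧ charDegree θ ∣ d ∧ charDegree θ ≠ 1 := by
  classical
  obtain ⟨χ, rfl⟩ := hd
  obtain ⟨θ, hθ, h⟩ := Cfsg.Agent.H672.exists_under (f := N.subtype) χ.2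
  refine ⟨θ, hθ, (Cfsg.Agent.H672.charDegree_dvd_of_over N χ.2 hθ h).1, ?_⟩
  intro hone
  apply h1
  let _ := Fintype.ofFinite N
  have hθ1 : θ 1 = 1 := (charDegree_eq_one_iff ⟨θ, hθ⟩).1 hone
  obtain ⟨f, rfl⟩ := Linear.exists_hom_of_isIrrCharacter hθ hθ1
  have hf : ∀ n : N, f n = 1 := by
    intro n
    have h4 : commutator N ≤ f.ker := Abelianization.commutator_subset_ker f
    exact h4 (by rw [hN]; trivial)
  rw [Cfsg.Agent.H672.over_iff] at h
  have hsum : ∑ n : N, (χ : G → ℂ) n ≠ 0 := by
    intro h0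
    apply h
    have h6 : ∀ n : N, ((χ : G → ℂ) ∘ N.subtype) n * (starRingEnd ℂ) ((f n : ℂˣ) : ℂ) = (χ : G → ℂ) n := by
      intro n
      rw [hf, Units.val_one, map_one, mul_one]
      rfl
    unfold classInner
    simp only [h6]
    rw [h0, mul_zero]
  obtain ⟨χ', hχ'⟩ := Cfsg.Agent.Blocks.Deflate.exists_deflation N (χ : G → ℂ) χ.2 hsum
  have hcomm : ∀ a b : G ⧸ N, a * b = b * a := by
    intro a b
    obtain ⟨a, rfl⟩ := QuotientGroup.mk_surjective a
    obtain ⟨b, rfl⟩ := QuotientGroup.mk_surjective b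
    rw [← QuotientGroup.mk_mul, ← QuotientGroup.mk_mul, QuotientGroup.eq, ← hG]
    have : (a * b)⁻¹ * (b * a) = ⁅b⁻¹, a⁻¹⁆ := by
      rw [commutatorElement_def]; group
    rw [this]
    exact Subgroup.commutator_mem_commutator (Subgroup.mem_top _) (Subgroup.mem_top _)
  rw [charDegree_eq_one_iff, hχ']
  exact CCBasic.irr_apply_one_of_comm hcomm χ'.2

theorem sl_of_central {G : Type*} [Group G] [Finite G] {F : Type*} [Field F] [Fintype F]
    (h5 : 5 ≤ Fintype.card F) (hD : charDegrees G = Cfsg.Agent.H691.DS (Fintype.card F)) (N R : Subgroup G) [N.Normal] [R.Normal]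
    (hRN : R ≤ N) (hN : ⁅N, N⁆ = N) (hG : commutator G = N) (hR : R ≤ Subgroup.centralizer (N : Set G))
    (e : (N ⧸ R.subgroupOf N) ≃* Matrix.ProjectiveSpecialLinearGroup (Fin 2) F) :
    Nonempty (N ≃* Matrix.SpecialLinearGroup (Fin 2) F) := by
  classical
  have _ := hRN
  have hNp : commutator N = ⊤ := by
    have h1 : (commutator N).map N.subtype = ⁅N, N⁆ := Subgroup.map_subtype_commutator N
    rw [hN] at h1
    rw [eq_top_iff]
    intro x _
    have h2 : (x : G) ∈ (commutator N).map N.subtype := by rw [h1]; exact x.2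
    obtain ⟨y, hy, hyx⟩ := h2
    have : y = x := Subtype.ext hyx
    rwa [← this]
  let f : N →* Matrix.ProjectiveSpecialLinearGroup (Fin 2) F :=
    e.toMonoidHom.comp (QuotientGroup.mk' (R.subgroupOf N))
  have hf : Function.Surjective f := e.surjective.comp (QuotientGroup.mk'_surjective _)
  have hfc : f.ker ≤ Subgroup.center N := by
    intro x hx
    have h1 : e (QuotientGroup.mk x) = 1 := hx
    have h2 : (QuotientGroup.mk x : N ⧸ R.subgroupOf N) = 1 := by
      rwa [EmbeddingLike.map_eq_one_iff] at h1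
    have h3 : (x : G) ∈ R := (QuotientGroup.eq_one_iff x).1 h2
    have h4 := Subgroup.mem_centralizer_iff.1 (hR h3)
    rw [Subgroup.mem_center_iff]
    intro y
    exact Subtype.ext (h4 y y.2)
  have hSp : commutator (Matrix.SpecialLinearGroup (Fin 2) F) = ⊤ :=
    TwoFusion.SLTwoFacts.commutator_eq_top (by omega)
  have hcardF : Nat.card F = Fintype.card F := Nat.card_eq_fintype_card
  obtain ⟨η, hη, hfη⟩ := SLCover.exists_surj hNp hSp f hf hfc
    (QuotientGroup.mk' (Subgroup.center (Matrix.SpecialLinearGroup (Fin 2) F))) (QuotientGroup.mk'_surjective _)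
    (by rw [QuotientGroup.ker_mk']) (by
      intro r hr hdvd
      by_cases h9 : Fintype.card F = 9
      · have h33 : Fact (Nat.Prime 3) := ⟨by norm_num⟩
        have hchar : CharP F 3 := by
          obtain ⟨p, hp⟩ := CharP.exists F
          obtain ⟨k, hpp, hk⟩ := FiniteField.card F p
          have h6 : p ∣ 3 ^ 2 := by
            rw [show (3 : ℕ) ^ 2 = Fintype.card F by rw [h9]; norm_num, hk]
            exact dvd_pow_self p k.pos.ne'
          have h7 : p = 3 := (Nat.prime_dvd_prime_iff_eq hpp (by norm_num)).1 (hpp.dvd_of_dvd_pow h6)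
          rwa [← h7]
        by_cases hr3 : r = 3
        · exfalso
          subst hr3
          obtain ⟨L, _, _, q, π, c, hq, -, hd⟩ := exists_pcov hr hNp hf hfc hdvd
          have hcard : Nat.card (Matrix.ProjectiveSpecialLinearGroup (Fin 2) F) = 360 := by
            have := ClassicalGeometry.PSL2Basic.card_PSL2_odd (F := F) (by rw [h9]; decide)
            rw [h9] at this
            omega
          obtain ⟨θ, hθ, hd3, hd1, hd2⟩ := SLNine.exists_bad_degree h9 hd hcard
          obtain ⟨d, hd', hdd⟩ := exists_dvd N (Core.isIrr_comp q hq hθ)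
          have h8 : charDegree (θ ∘ q) = charDegree θ := by
            have e1 := charDegree_irr (⟨θ ∘ q, Core.isIrr_comp q hq hθ⟩ : IrrCharacter N)
            have e2 := charDegree_irr (⟨θ, hθ⟩ : IrrCharacter L)
            have e3 : (θ ∘ q) 1 = θ 1 := by simp
            have e4 : ((charDegree (θ ∘ q) : ℕ) : ℂ) = ((charDegree θ : ℕ) : ℂ) := by
              rw [e1, e2]; exact e3
            exact_mod_cast e4
          rw [h8] at hdd
          rw [hD, h9] at hd'
          have h10 : d = 9 := by
            have h11 : 3 ∣ d := hd3.trans hdd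
            rcases hd' with h | h | h | h | h | h <;> omega
          subst h10
          have h12 : charDegree θ ∣ 3 ^ 2 := by simpa using hdd
          obtain ⟨k, hk, hk'⟩ := (Nat.dvd_prime_pow (by norm_num : Nat.Prime 3)).1 h12
          interval_cases k
          · rw [hk'] at hd3; norm_num at hd3
          · exact hd1 (by rw [hk']; norm_num)
          · exact hd2 (by rw [hk']; norm_num)
        · exact H60.CrossA.noPCov_SL_cross 1 3 hr hr3
      · exact H60.MultA.noPCov_SL ⟨le_rfl, fun _ => by omega, by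
          simp only [Set.mem_insert_iff, Set.mem_singleton_iff, Prod.mk.injEq, not_or, not_and]
          refine ⟨fun _ => by omega, fun _ => by omega, by norm_num, by norm_num, by norm_num⟩⟩ hr)
  by_cases hinj : Function.Injective η
  · exact ⟨(MulEquiv.ofBijective η ⟨hinj, hη⟩).symm⟩
  exfalso
  -- the kernel contains the central element of order two
  obtain ⟨x, hx, hx1⟩ : ∃ x, η x = 1 ∧ x ≠ 1 := by
    by_contra hcon
    push Not at hcon
    exact hinj ((injective_iff_map_eq_one η).2 hcon)
  have hxc : x ∈ Subgroup.center (Matrix.SpecialLinearGroup (Fin 2) F) := by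
    have h1 : f (η x) = QuotientGroup.mk' (Subgroup.center (Matrix.SpecialLinearGroup (Fin 2) F)) x :=
      DFunLike.congr_fun hfη x
    rw [hx, map_one] at h1
    exact (QuotientGroup.eq_one_iff x).1 h1.symm
  have hxz : x = z0 := by
    have h1 : ¬ NS ((x : Matrix.SpecialLinearGroup (Fin 2) F) : Matrix (Fin 2) (Fin 2) F) :=
      not_NS_of_mem_center hxc
    rcases scalar_cases h1 with h | h
    · exact absurd (by rw [h, upp_one_zero]) hx1
    · exact h
  subst hxz
  have h2 : ringChar F ≠ 2 := by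
    intro h2
    apply hx1
    have : CharP F 2 := by rw [← h2]; infer_instance
    have h3 : (-1 : Fˣ) = 1 := by
      apply Units.ext
      rw [Units.val_neg, Units.val_one]
      exact CharTwo.neg_eq 1
    show upp (-1) 0 = 1
    rw [h3, upp_one_zero]
  obtain ⟨m, hm⟩ : ∃ m, Fintype.card F = 2 * m + 1 := by
    have := FiniteField.odd_card_of_char_ne_two h2
    exact ⟨Fintype.card F / 2, by omega⟩
  have hm2 : 2 ≤ m := by omega
  have hodd : Odd (Fintype.card F) := ⟨m, hm⟩
  have key : ∀ d : ℕ, d ∈ charDegrees G → d ≠ 1 → (d = m + 1 ∨ d = m) →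
      ∃ ψ : Matrix.SpecialLinearGroup (Fin 2) F → ℂ, IsIrrCharacter _ ψ ∧ (∀ g, ψ (z0 * g) = ψ g) ∧ ψ 1 = ((d : ℕ) : ℂ) := by
    intro d hd hd1 hdm
    obtain ⟨θ, hθ, hdvd, hne⟩ := exists_under N hNp hG hd hd1
    refine ⟨θ ∘ η, Core.isIrr_comp η hη hθ, ?_, ?_⟩
    · intro g
      simp only [Function.comp_apply, map_mul, hx, one_mul]
    · have e2 := charDegree_irr (⟨θ, hθ⟩ : IrrCharacter N)
      have e3 : (θ ∘ η) 1 = ((charDegree θ : ℕ) : ℂ) := by
        rw [e2]; simp only [_root_.Function.comp_apply, _root_.map_one]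
      rw [e3]
      congr 1
      have hle : charDegree θ ≤ d := Nat.le_of_dvd (by omega) hdvd
      have h6 := (S2299.result (F := F) hodd).1 (θ ∘ η) (Core.isIrr_comp η hη hθ)
      rw [e3] at h6
      have h7 : charDegree θ = 1 ∨ charDegree θ = 2 * m + 1 ∨ charDegree θ = 2 * m + 1 + 1 ∨
          charDegree θ + 1 = 2 * m + 1 ∨ charDegree θ = m + 1 ∨ charDegree θ = m := by
        rw [hm] at h6
        have e4 : (2 * m + 1 + 1) / 2 = m + 1 := by omega
        have e5 : (2 * m + 1 - 1) / 2 = m := by omega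
        rw [e4, e5] at h6
        rcases h6 with h | h | h | h | h | h
        · left; exact_mod_cast h
        · right; left; exact_mod_cast h
        · right; right; left; exact_mod_cast h
        · right; right; right; left
          have : ((charDegree θ : ℕ) : ℂ) + 1 = ((2 * m + 1 : ℕ) : ℂ) := by rw [h]; ring
          exact_mod_cast this
        · right; right; right; right; left; exact_mod_cast h
        · right; right; right; right; right; exact_mod_cast h
      rcases h7 with h | h | h | h | h | h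
      · exact absurd h hne
      · omega
      · omega
      · omega
      · rcases hdm with hdm | hdm
        · omega
        · omega
      · rcases hdm with hdm | hdm
        · exfalso
          rw [h, hdm] at hdvd
          have : m ∣ 1 := (Nat.dvd_add_right (dvd_refl m)).1 hdvd
          have := Nat.le_of_dvd one_pos this
          omega
        · omega
  obtain ⟨ψ1, a1, a2, a3⟩ := key (m + 1) (by
    rw [hD, hm]; right; right; right; right; left; ring) (by omega) (Or.inl rfl)
  obtain ⟨ψ2, b1, b2, b3⟩ := key m (by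
    rw [hD, hm]; right; right; right; right; right; ring) (by omega) (Or.inr rfl)
  have c1 := SLHalf.halves_plus h2 hm hm2 a1 a2 a3
  have c2 := SLHalf.halves_minus h2 hm hm2 b1 b2 b3
  exact (Nat.not_odd_iff_even.2 c1) c2

end Cfsg.Agent.H686.SlCentral
end
end

-- part: H462/T3/MulIrr
section
prune_inst 0x400040606200000800000020000044040000020040400038200040084b126aa04501011a101c1200442e9050040000001000400008000020000c000000012000a00000a0080108e00007002003080000000000000000000000800000041000008000000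
set_option linter.all false
open scoped Cfsg.Agent.FastGrp

/-!
# Products of irreducible characters (helper462)

* `eq_of_average` : a character whose average over `N` is its degree is constant on the cosets of `N`;
* `isIrr_mul` : `χ β` is irreducible if `β` is irreducible on `N`, trivial on `R ≤ N`, and `χ` has the same norm on
  `R` and on `N`;
* `norm_eq` : a character of a perfect group whose constituents restrict irreducibly to `R` has the same norm on `R`.
-/

set_option autoImplicit false

open scoped ComplexConjugate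

namespace Cfsg.Agent.H462.T3

open Cfsg Cfsg.Agent.Characters Cfsg.Agent.Characters.Core Cfsg.Agent.H686.CharKit
open Cfsg.Agent.CharactersDeep.CosetAverage

universe u

/-- a character whose average over `N` is its degree is trivial on `N` -/
theorem eq_of_average {G : Type u} [Group G] [Finite G] (N : Subgroup G) [Fintype N] {w : G → ℂ}
    (hw : IsCharacter G w) (h : (Nat.card N : ℂ)⁻¹ * ∑ n : N, w n = w 1) (n : N) : w n = w 1 := by
  obtain ⟨d, hd⟩ := isCharacter_apply_one hw
  have hle : ∀ x : G, (w x).re ≤ d := fun x => (Complex.re_le_norm _).trans (SchurBound.norm_le hw hd x)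
  have hc : (Nat.card N : ℂ) ≠ 0 := by exact_mod_cast Nat.card_pos.ne'
  have h1 : ∑ n : N, w n = Nat.card N * d := by
    rw [hd] at h
    rw [← h, ← mul_assoc, mul_inv_cancel₀ hc, one_mul]
  have h2 : ∑ n : N, (w n).re = ∑ n : N, (d : ℝ) := by
    have h3 := congrArg Complex.re h1
    rw [Complex.re_sum] at h3
    rw [h3, Finset.sum_const, Finset.card_univ, ← Nat.card_eq_fintype_card, nsmul_eq_mul]
    rw [← Nat.cast_mul, Complex.natCast_re, Nat.cast_mul]
  have h3 := (Finset.sum_eq_sum_iff_of_le (fun (n : N) _ => hle n)).1 h2 n (Finset.mem_univ n)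
  have h4 : ‖w n‖ ≤ d := SchurBound.norm_le hw hd n
  rw [hd]
  have h5 : (w n).im = 0 := by
    have h6 := Complex.sq_norm (w n)
    rw [Complex.normSq_apply, h3] at h6
    have h7 : ‖w n‖ ^ 2 ≤ (d : ℝ) ^ 2 := pow_le_pow_left₀ (norm_nonneg _) h4 2
    nlinarith [sq_nonneg (w n).im]
  exact Complex.ext (by rw [h3, Complex.natCast_re]) (by rw [h5, Complex.natCast_im])

/-- **Products.** -/
theorem isIrr_mul {G : Type u} [Group G] [Fintype G] (N R : Subgroup G) [N.Normal] [R.Normal] [Fintype N] [Fintype R]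
    (hRN : R ≤ N) {χ β : G → ℂ} (hχ : IsIrrCharacter G χ) (hβ : IsIrrCharacter G β)
    (hβN : IsIrrCharacter N (fun n : N => β n)) (hβR : ∀ r ∈ R, β r = β 1)
    (h : (Nat.card R : ℂ)⁻¹ * ∑ r : R, χ r * conj (χ r) = (Nat.card N : ℂ)⁻¹ * ∑ n : N, χ n * conj (χ n)) :
    IsIrrCharacter G (χ * β) := by
  have hχc := isIrr_isCharacter hχ
  have hβc := isIrr_isCharacter hβ
  have hRc : (Nat.card R : ℂ) ≠ 0 := by exact_mod_cast Nat.card_pos.ne'
  have hGc : (Nat.card G : ℂ) ≠ 0 := by exact_mod_cast Nat.card_pos.ne'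
  apply isIrr_of_classInner_self (isCharacter_mul hχc hβc)
  set θ : G → ℂ := fun g => χ g * conj (χ g) with hθ
  set b : G → ℂ := fun g => β g * conj (β g) with hb
  have hθc : IsCharacter G θ := isCharacter_mul hχc (isCharacter_conj hχc)
  set w : G → ℂ := fun g => (Nat.card R : ℂ)⁻¹ * ∑ r : R, θ ((r : G) * g) with hw
  have hwc : IsCharacter G w := isCharacter_cosetAverage R hθc
  -- `w` is trivial on `N`
  have hwN : ∀ n : N, w n = w 1 := by
    apply eq_of_average N hwc
    have h1 : w 1 = (Nat.card N : ℂ)⁻¹ * ∑ n : N, θ n := by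
      have h2 : w 1 = (Nat.card R : ℂ)⁻¹ * ∑ r : R, χ r * conj (χ r) := by
        rw [hw]
        simp only [mul_one, hθ]
      rw [h2, h]
    rw [h1]
    congr 1
    have h2 : ∀ r : R, ∑ n : N, θ ((r : G) * (n : G)) = ∑ n : N, θ n := by
      intro r
      refine Fintype.sum_equiv (Equiv.mulLeft (⟨r, hRN r.2⟩ : N)) _ _ fun n => ?_
      rfl
    calc ∑ n : N, w n = (Nat.card R : ℂ)⁻¹ * ∑ n : N, ∑ r : R, θ ((r : G) * (n : G)) := by
          rw [Finset.mul_sum]
      _ = (Nat.card R : ℂ)⁻¹ * ∑ r : R, ∑ n : N, θ ((r : G) * (n : G)) := by rw [Finset.sum_comm]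
      _ = (Nat.card R : ℂ)⁻¹ * ∑ r : R, ∑ n : N, θ n := by
          congr 1
          exact Finset.sum_congr rfl fun r _ => h2 r
      _ = ∑ n : N, θ n := by
          rw [Finset.sum_const, Finset.card_univ, ← Nat.card_eq_fintype_card, nsmul_eq_mul, ← mul_assoc,
            inv_mul_cancel₀ hRc, one_mul]
  have hwinv : ∀ (n : N) (g : G), w ((n : G) * g) = w g := fun n g => apply_mul_of_eq hwc (hwN n) g
  have hbinv : ∀ (r : R) (g : G), b ((r : G) * g) = b g := by
    intro r g
    rw [hb]
    simp only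
    rw [apply_mul_of_eq hβc (hβR r r.2)]
  have h1 : ∑ g, θ g * b g = ∑ g, w g * b g := sum_mul_invariant R θ b hbinv
  have h2 : ∑ g, b g * w g = ∑ g, w g := by
    rw [sum_mul_invariant N b w hwinv]
    refine Finset.sum_congr rfl fun g _ => ?_
    rw [cosetAverage_self N β hβ hβN g, one_mul]
  have h3 : ∑ g, w g = ∑ g, θ g := by
    have h4 := sum_mul_invariant R θ (fun _ => 1) (fun _ _ => rfl)
    simp only [mul_one] at h4
    exact h4.symm
  have h5 : classInner χ χ = 1 := classInner_irr_self hχ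
  rw [classInner_def] at h5 ⊢
  rw [← h5]
  congr 1
  calc ∑ g, (χ * β) g * conj ((χ * β) g) = ∑ g, θ g * b g := by
        refine Finset.sum_congr rfl fun g _ => ?_
        rw [hθ, hb]
        simp only [Pi.mul_apply, map_mul]
        ring
    _ = ∑ g, b g * w g := by
        rw [h1]
        exact Finset.sum_congr rfl fun g _ => mul_comm _ _
    _ = ∑ g, θ g := by rw [h2, h3]

/-- linear characters of a perfect group are trivial -/
theorem eq_one_of_perfect {N : Type u} [Group N] [Finite N] (hN : commutator N = ⊤) {η : N → ℂ}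
    (hη : IsIrrCharacter N η) (h1 : η 1 = 1) : η = 1 := by
  obtain ⟨f, rfl⟩ := Linear.exists_hom_of_isIrrCharacter hη h1
  funext n
  have h4 : commutator N ≤ f.ker := Abelianization.commutator_subset_ker f
  have h5 : f n = 1 := h4 (by rw [hN]; trivial)
  change ((f n : ℂˣ) : ℂ) = 1
  rw [h5, Units.val_one]

/-- characters of a perfect group with the same irreducible restriction to a normal subgroup are equal -/
theorem eq_of_inner_ne {N : Type u} [Group N] [Fintype N] (hN : commutator N = ⊤) (R : Subgroup N) [R.Normal]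
    [Fintype R] {ψ φ : N → ℂ} (hψ : IsIrrCharacter N ψ) (hφ : IsIrrCharacter N φ)
    (hψR : IsIrrCharacter R (fun r : R => ψ r)) (hφR : IsIrrCharacter R (fun r : R => φ r))
    (h : classInner (fun r : R => φ r) (fun r : R => ψ r) ≠ 0) : φ = ψ := by
  obtain ⟨η, hη, -, hφψ⟩ := exists_irr_mul R ψ hψ hψR φ hφ h
  have h1 : (fun r : R => φ r) = (fun r : R => ψ r) := by
    by_contra hne
    exact h (classInner_irr_ne hφR hψR hne)
  have h2 : φ 1 = ψ 1 := congrFun h1 1
  have h3 : η 1 = 1 := by
    have h4 := congrFun hφψ 1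
    rw [Pi.mul_apply, h2] at h4
    exact (mul_eq_left₀ (isIrr_apply_one_ne_zero hψ)).1 h4.symm
  rw [hφψ, eq_one_of_perfect hN hη h3, mul_one]

/-- **Norms.** -/
theorem norm_eq {N : Type u} [Group N] [Fintype N] (hN : commutator N = ⊤) (R : Subgroup N) [R.Normal]
    [Fintype R] {w : N → ℂ} (hw : IsCharacter N w)
    (h : ∀ ψ : N → ℂ, IsIrrCharacter N ψ → classInner w ψ ≠ 0 → IsIrrCharacter R (fun r : R => ψ r)) :
    classInner (fun r : R => w r) (fun r : R => w r) = classInner w w := by
  classical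
  have := finite_irr (G := N)
  have := Fintype.ofFinite (IrrCharacter N)
  obtain ⟨m, hm⟩ := exists_nat_comb hw
  have hm' : w = ∑ ψ : IrrCharacter N, (m ψ : ℂ) • (ψ : N → ℂ) := by
    rw [hm]
    simp only [Nat.cast_smul_eq_nsmul]
  have hirr : ∀ ψ : IrrCharacter N, m ψ ≠ 0 → IsIrrCharacter R (fun r : R => (ψ : N → ℂ) r) := by
    intro ψ hψ
    apply h ψ ψ.2
    rw [hm', classInner_sum_smul_irr]
    exact_mod_cast hψ
  have hres : (fun r : R => w r) = ∑ ψ : IrrCharacter N, (m ψ : ℂ) • (fun r : R => (ψ : N → ℂ) r) := by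
    funext r
    rw [hm']
    simp only [Finset.sum_apply, Pi.smul_apply]
  have hR : classInner (fun r : R => w r) (fun r : R => w r) = ∑ ψ : IrrCharacter N, (m ψ : ℂ) * conj (m ψ : ℂ) := by
    rw [hres, classInner_sum_left]
    refine Finset.sum_congr rfl fun ψ _ => ?_
    rw [classInner_smul_left]
    by_cases h0 : m ψ = 0
    · rw [h0, Nat.cast_zero, zero_mul, zero_mul]
    · congr 1
      rw [classInner_sum_right, Finset.sum_eq_single ψ]
      · rw [classInner_smul_right, classInner_irr_self (hirr ψ h0), mul_one]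
      · intro φ _ hne
        rw [classInner_smul_right]
        by_cases h1 : m φ = 0
        · rw [h1, Nat.cast_zero, map_zero, zero_mul]
        · have h2 : classInner (fun r : R => (ψ : N → ℂ) r) (fun r : R => (φ : N → ℂ) r) = 0 := by
            by_contra h3
            exact hne (Subtype.ext (eq_of_inner_ne hN R φ.2 ψ.2 (hirr φ h1) (hirr ψ h0) h3).symm)
          rw [h2, mul_zero]
      · intro h1
        exact (h1 (Finset.mem_univ _)).elim
  rw [hR]
  conv_rhs => rw [hm']
  rw [classInner_sum_smul_sum_smul]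

end Cfsg.Agent.H462.T3
end
end
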